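import Cfsg.Agent.PQ.Th.Defs

/-!
# PQ theta, box REL: gradings, adjoints and locally finite sums (helper82)
-/

set_option autoImplicit false
set_option linter.unusedSectionVars false

namespace Cfsg.Agent.PQ.Rel

open Module Cfsg.Agent.PQ.Th
open scoped ComplexConjugate

variable {V : Type} [AddCommGroup V] [Module ℂ V] {H : HS V}

theorem sup_le {P : H.ι → Prop} {S : Submodule ℂ V} (h : ∀ i, P i → H.b i ∈ S) : H.sup P ≤ S := fun u hu => by
  have : u ∈ Submodule.span ℂ (H.b '' {i | P i}) := by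
    rw [Basis.mem_span_image]
    intro i hi
    by_contra hP
    exact (Finsupp.mem_support_iff.1 hi) (hu i hP)
  exact Submodule.span_le.2 (by rintro _ ⟨i, hi, rfl⟩; exact h i hi) this

theorem b_mem {P : H.ι → Prop} {i : H.ι} (h : P i) : H.b i ∈ H.sup P := fun x hx => by
  classical
  rw [Basis.repr_self, Finsupp.single_apply, if_neg]
  rintro rfl
  exact hx h

theorem sup_mono {P Q : H.ι → Prop} (h : ∀ i, P i → Q i) : H.sup P ≤ H.sup Q := fun _ hu i hi => hu i fun hp => hi (h i hp)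

theorem eq_zero_of_sup {P Q : H.ι → Prop} (h : ∀ i, P i → ¬ Q i) {u : V} (h1 : u ∈ H.sup P) (h2 : u ∈ H.sup Q) : u = 0 := by
  refine H.b.repr.injective (Finsupp.ext fun i => ?_)
  rw [map_zero]
  by_cases hp : P i
  · exact h2 i (h i hp)
  · exact h1 i hp

theorem map_sup {P : H.ι → Prop} {A : End ℂ V} {S : Submodule ℂ V} (h : ∀ i, P i → A (H.b i) ∈ S) {u : V}
    (hu : u ∈ H.sup P) : A u ∈ S := sup_le (S := S.comap A) h hu

theorem ext_sup {P : H.ι → Prop} {A B : End ℂ V} (h : ∀ i, P i → A (H.b i) = B (H.b i)) {u : V} (hu : u ∈ H.sup P) :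
    A u = B u := sup_le (S := LinearMap.eqLocus A B) h hu

theorem mk_b (f : H.ι → V) (i : H.ι) : H.mk' f (H.b i) = f i := H.b.constr_basis ℂ f i

theorem gr_neg {n : ℤ} (hn : n < 0) {u : V} (hu : u ∈ H.gr n) : u = 0 :=
  eq_zero_of_sup (Q := fun i => (H.rk i : ℤ) = n) (fun i hi _ => by omega) hu hu

theorem b_gr (i : H.ι) : H.b i ∈ H.gr (H.rk i) := b_mem rfl

theorem b_cmp (i : H.ι) : H.b i ∈ H.cmp (H.df i) := b_mem rfl

/-- rank `+ d` -/
def Gr (H : HS V) (A : End ℂ V) (d : ℤ) : Prop := ∀ n, ∀ u ∈ H.gr n, A u ∈ H.gr (n + d)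

/-- defect `+ s` -/
def Df (H : HS V) (A : End ℂ V) (s : ZMod 4) : Prop := ∀ a, ∀ u ∈ H.cmp a, A u ∈ H.cmp (a + s)

theorem Gr.of {A : End ℂ V} {d : ℤ} (h : ∀ i, A (H.b i) ∈ H.gr (H.rk i + d)) : Gr H A d :=
  fun _ _ hu => map_sup (fun i hi => hi ▸ h i) hu

theorem Df.of {A : End ℂ V} {s : ZMod 4} (h : ∀ i, A (H.b i) ∈ H.cmp (H.df i + s)) : Df H A s :=
  fun _ _ hu => map_sup (fun i hi => hi ▸ h i) hu

theorem hom_gr {A : End ℂ V} {d : ℤ} {s : ZMod 4} (h : H.Hom A d s) : Gr H A d := Gr.of fun i => (h i).1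

theorem hom_df {A : End ℂ V} {d : ℤ} {s : ZMod 4} (h : H.Hom A d s) : Df H A s := Df.of fun i => (h i).2

theorem Gr.cast {A : End ℂ V} {d e : ℤ} (h : Gr H A d) (he : d = e) : Gr H A e := he ▸ h

theorem Df.cast {A : End ℂ V} {d e : ZMod 4} (h : Df H A d) (he : d = e) : Df H A e := he ▸ h

theorem Gr.mul {A B : End ℂ V} {d e : ℤ} (h : Gr H A d) (h' : Gr H B e) : Gr H (A * B) (e + d) :=
  fun n u hu => add_assoc n e d ▸ h _ _ (h' n u hu)

theorem Df.mul {A B : End ℂ V} {d e : ZMod 4} (h : Df H A d) (h' : Df H B e) : Df H (A * B) (e + d) :=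
  fun n u hu => add_assoc n e d ▸ h _ _ (h' n u hu)

theorem Gr.one : Gr H 1 0 := fun n u hu => by simpa using hu

theorem Df.one : Df H 1 0 := fun n u hu => by simpa using hu

theorem Gr.zero (d : ℤ) : Gr H 0 d := fun _ _ _ => zero_mem _

theorem Df.zero (d : ZMod 4) : Df H 0 d := fun _ _ _ => zero_mem _

theorem Gr.add {A B : End ℂ V} {d : ℤ} (h : Gr H A d) (h' : Gr H B d) : Gr H (A + B) d :=
  fun n u hu => add_mem (h n u hu) (h' n u hu)

theorem Gr.neg {A : End ℂ V} {d : ℤ} (h : Gr H A d) : Gr H (-A) d := fun n u hu => neg_mem (h n u hu)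

theorem Df.neg {A : End ℂ V} {d : ZMod 4} (h : Df H A d) : Df H (-A) d := fun n u hu => neg_mem (h n u hu)

theorem Gr.smul {A : End ℂ V} {d : ℤ} (h : Gr H A d) (c : ℂ) : Gr H (c • A) d :=
  fun n u hu => Submodule.smul_mem _ c (h n u hu)

theorem Gr.sum {α : Type} (s : Finset α) {A : α → End ℂ V} {d : ℤ} (h : ∀ i ∈ s, Gr H (A i) d) : Gr H (∑ i ∈ s, A i) d :=
  fun n u hu => by rw [LinearMap.sum_apply]; exact sum_mem fun i hi => h i hi n u hu

theorem Df.sum {α : Type} (s : Finset α) {A : α → End ℂ V} {d : ZMod 4} (h : ∀ i ∈ s, Df H (A i) d) :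
    Df H (∑ i ∈ s, A i) d :=
  fun n u hu => by rw [LinearMap.sum_apply]; exact sum_mem fun i hi => h i hi n u hu

theorem Gr.kill {A : End ℂ V} {d n : ℤ} (h : Gr H A d) {u : V} (hu : u ∈ H.gr n) (hn : n + d < 0) : A u = 0 :=
  gr_neg hn (h n u hu)

/-! ### the inner product -/

theorem ip_b_right (u : V) (i : H.ι) : H.ip u (H.b i) = H.b.repr u i := by
  classical
  unfold HS.ip
  rw [Finsupp.sum, Finset.sum_eq_single i]
  · simp
  · intro x _ hx
    simp [Finsupp.single_apply, hx.symm]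
  · intro hi
    simp [Finsupp.notMem_support_iff.1 hi]

theorem ip_b_left (i : H.ι) (v : V) : H.ip (H.b i) v = conj (H.b.repr v i) := by
  unfold HS.ip
  rw [Basis.repr_self, Finsupp.sum_single_index (by simp), one_mul]

theorem ip_add_left (u u' v : V) : H.ip (u + u') v = H.ip u v + H.ip u' v := by
  unfold HS.ip
  rw [map_add, Finsupp.sum_add_index' (fun _ => by simp) (fun _ _ _ => by ring)]

theorem ip_smul_left (c : ℂ) (u v : V) : H.ip (c • u) v = c * H.ip u v := by
  unfold HS.ip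
  rw [map_smul, Finsupp.sum_smul_index' (fun _ => by simp), Finsupp.mul_sum]
  exact Finsupp.sum_congr fun _ _ => by rw [smul_eq_mul, mul_assoc]

theorem ip_add_right (u v v' : V) : H.ip u (v + v') = H.ip u v + H.ip u v' := by
  unfold HS.ip
  rw [← Finsupp.sum_add]
  exact Finsupp.sum_congr fun _ _ => by simp [mul_add]

theorem ip_smul_right (c : ℂ) (u v : V) : H.ip u (c • v) = conj c * H.ip u v := by
  unfold HS.ip
  rw [Finsupp.mul_sum]
  exact Finsupp.sum_congr fun _ _ => by simp [mul_left_comm]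

theorem ip_zero_left (v : V) : H.ip 0 v = 0 := by simpa using ip_smul_left (H := H) 0 0 v

theorem ip_zero_right (v : V) : H.ip v 0 = 0 := by simpa using ip_smul_right (H := H) 0 v 0

/-- adjointness can be tested on the basis -/
theorem adj_of {A B : End ℂ V} (h : ∀ i j, H.b.repr (A (H.b i)) j = conj (H.b.repr (B (H.b j)) i)) : H.Adj A B := by
  intro u v
  have hu : u ∈ Submodule.span ℂ (Set.range H.b) := H.b.mem_span u
  have hv : v ∈ Submodule.span ℂ (Set.range H.b) := H.b.mem_span v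
  induction hu using Submodule.span_induction with
  | zero => rw [map_zero, ip_zero_left, ip_zero_left]
  | add x y _ _ h1 h2 => rw [map_add, ip_add_left, ip_add_left, h1, h2]
  | smul c x _ h1 => rw [map_smul, ip_smul_left, ip_smul_left, h1]
  | mem x hx =>
    obtain ⟨i, rfl⟩ := hx
    induction hv using Submodule.span_induction with
    | zero => rw [map_zero, ip_zero_right, ip_zero_right]
    | add x y _ _ h1 h2 => rw [map_add, ip_add_right, ip_add_right, h1, h2]
    | smul c x _ h1 => rw [map_smul, ip_smul_right, ip_smul_right, h1]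
    | mem y hy =>
      obtain ⟨j, rfl⟩ := hy
      rw [ip_b_right, ip_b_left, h]

theorem adj_repr {A B : End ℂ V} (h : H.Adj A B) (i j : H.ι) :
    H.b.repr (A (H.b i)) j = conj (H.b.repr (B (H.b j)) i) := by
  rw [← ip_b_right, h, ip_b_left]

theorem adj_symm {A B : End ℂ V} (h : H.Adj A B) : H.Adj B A :=
  adj_of fun i j => by rw [adj_repr h, Complex.conj_conj]

theorem adj_unique {A B B' : End ℂ V} (h : H.Adj A B) (h' : H.Adj A B') : B = B' :=
  H.b.ext fun j => H.b.repr.injective (Finsupp.ext fun i => by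
    have := (adj_repr h i j).symm.trans (adj_repr h' i j)
    exact star_injective this)

theorem adj_mul {A B A' B' : End ℂ V} (h : H.Adj A B) (h' : H.Adj A' B') : H.Adj (A * A') (B' * B) :=
  fun u v => (h _ v).trans (h' u _)

theorem adj_add {A B A' B' : End ℂ V} (h : H.Adj A B) (h' : H.Adj A' B') : H.Adj (A + A') (B + B') := fun u v => by
  rw [LinearMap.add_apply, LinearMap.add_apply, ip_add_left, ip_add_right, h, h']

theorem adj_smul {A B : End ℂ V} (h : H.Adj A B) (c : ℂ) : H.Adj (c • A) (conj c • B) := fun u v => by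
  rw [LinearMap.smul_apply, LinearMap.smul_apply, ip_smul_left, ip_smul_right, h, Complex.conj_conj]

theorem adj_neg {A B : End ℂ V} (h : H.Adj A B) : H.Adj (-A) (-B) := by
  simpa using adj_smul h (-1)

theorem adj_one : H.Adj (1 : End ℂ V) 1 := fun _ _ => rfl

theorem adj_gr {A B : End ℂ V} (h : H.Adj A B) {d : ℤ} (hA : Gr H A d) : Gr H B (-d) := Gr.of fun j i hi => by
  have := hA _ _ (b_gr i) j (by omega)
  rw [adj_repr h] at this
  simpa using this

theorem adj_df {A B : End ℂ V} (h : H.Adj A B) {s : ZMod 4} (hA : Df H A s) : Df H B (-s) := Df.of fun j i hi => by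
  have := hA _ _ (b_cmp i) j fun e => hi (by rw [e, add_neg_cancel_right])
  rw [adj_repr h] at this
  simpa using this

theorem fock_b (M : ℤ) (i : H.ι) : H.fock.b ⟨M, i⟩ = Finsupp.single M (H.b i) :=
  congrFun (Finsupp.coe_basis fun _ : ℤ => H.b) ⟨M, i⟩

theorem fock_repr (u : ℤ →₀ V) (M : ℤ) (i : H.ι) : H.fock.b.repr u ⟨M, i⟩ = H.b.repr (u M) i :=
  Finsupp.basis_repr (fun _ : ℤ => H.b) u ⟨M, i⟩

theorem lf_single (A : End ℂ V) (M : ℤ) (u : V) : lf A (Finsupp.single M u) = Finsupp.single M (A u) := by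
  simp [lf]

theorem adj_lf {A B : End ℂ V} (h : H.Adj A B) : H.fock.Adj (lf A) (lf B) := by
  classical
  refine adj_of fun x y => ?_
  obtain ⟨M, i⟩ := x
  obtain ⟨N, j⟩ := y
  rw [fock_b, fock_b, fock_repr, fock_repr, lf_single, lf_single]
  by_cases e : M = N
  · subst e
    simp [adj_repr h]
  · simp [e, Ne.symm e]

/-! ### parity -/

open Classical in
theorem po_apply {a : ZMod 4} {u : V} (hu : u ∈ H.cmp a) : H.po u = if Od a then u else 0 := by
  have : H.po u = (if Od a then (1 : End ℂ V) else 0) u := ext_sup (fun i hi => by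
    rw [HS.po, mk_b, hi]; split_ifs <;> rfl) hu
  rw [this]; split_ifs <;> rfl

open Classical in
theorem pe_apply {a : ZMod 4} {u : V} (hu : u ∈ H.cmp a) : H.pe u = if Od a then 0 else u := by
  have : H.pe u = (if Od a then (0 : End ℂ V) else 1) u := ext_sup (fun i hi => by
    rw [HS.pe, mk_b, hi]; split_ifs <;> rfl) hu
  rw [this]; split_ifs <;> rfl

open Classical in
theorem J_apply {a : ZMod 4} {u : V} (hu : u ∈ H.cmp a) : H.J u = if Od a then u else -u := by
  rw [HS.J, LinearMap.sub_apply, po_apply hu, pe_apply hu]; split_ifs <;> simp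

theorem od_two (a : ZMod 4) : Od (a + 2) ↔ Od a := by unfold Od; revert a; decide

theorem od_one (a : ZMod 4) : Od (a + 1) ↔ ¬ Od a := by unfold Od; revert a; decide

theorem od_neg_one (a : ZMod 4) : Od (a + -1) ↔ ¬ Od a := by unfold Od; revert a; decide

theorem po_comm {A : End ℂ V} {s : ZMod 4} (h : Df H A s) (hs : ∀ a, Od (a + s) ↔ Od a) : H.po * A = A * H.po :=
  H.b.ext fun i => by
    rw [End.mul_apply, End.mul_apply, po_apply (h _ _ (b_cmp i)), po_apply (b_cmp i), hs]; split_ifs <;> simp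

theorem pe_comm {A : End ℂ V} {s : ZMod 4} (h : Df H A s) (hs : ∀ a, Od (a + s) ↔ Od a) : H.pe * A = A * H.pe :=
  H.b.ext fun i => by
    rw [End.mul_apply, End.mul_apply, pe_apply (h _ _ (b_cmp i)), pe_apply (b_cmp i), hs]; split_ifs <;> simp

theorem J_comm {A : End ℂ V} {s : ZMod 4} (h : Df H A s) (hs : ∀ a, Od (a + s) ↔ Od a) : H.J * A = A * H.J := by
  rw [HS.J, sub_mul, mul_sub, po_comm h hs, pe_comm h hs]

theorem J_anti {A : End ℂ V} {s : ZMod 4} (h : Df H A s) (hs : ∀ a, Od (a + s) ↔ ¬ Od a) : H.J * A = -(A * H.J) :=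
  H.b.ext fun i => by
    rw [LinearMap.neg_apply, End.mul_apply, End.mul_apply, J_apply (h _ _ (b_cmp i)), J_apply (b_cmp i), hs]
    by_cases e : Od (H.df i) <;> simp [e]

theorem J_df : Df H H.J 0 := fun a u hu => by
  rw [J_apply hu, add_zero]; split_ifs
  exacts [hu, neg_mem hu]

theorem J_J : H.J * H.J = 1 := H.b.ext fun i => by
  have := J_df _ _ (b_cmp (H := H) i)
  rw [add_zero] at this
  rw [End.mul_apply, J_apply this, J_apply (b_cmp i)]; split_ifs <;> simp

theorem adj_J : H.Adj H.J H.J := by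
  classical
  refine adj_of fun i j => ?_
  rw [J_apply (b_cmp i), J_apply (b_cmp j)]
  by_cases e : i = j
  · subst e; split_ifs <;> simp
  · split_ifs <;> simp [e, Ne.symm e]

theorem sep {a a' : ZMod 4} (h : a ≠ a') {u v : V} (hu : u ∈ H.cmp a) (hv : v ∈ H.cmp a') (e : u + v = 0) : u = 0 := by
  have : u ∈ H.cmp a' := by rw [eq_neg_of_add_eq_zero_left e]; exact neg_mem hv
  exact eq_zero_of_sup (fun i hi hi' => h (hi.symm.trans hi')) hu this

end Cfsg.Agent.PQ.Rel
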